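import Groth.Agent.Lib.DegDet.Index
import Mathlib.LinearAlgebra.Matrix.NonsingularInverse
import Mathlib.LinearAlgebra.Matrix.SchurComplement
import Mathlib.RingTheory.Localization.Away.Basic
import Mathlib.RingTheory.Localization.Integer
import Mathlib.RingTheory.Ideal.Quotient.Operations
import Mathlib.RingTheory.Spectrum.Maximal.Basic
import Mathlib.RingTheory.Noetherian.Basic
import Mathlib.RingTheory.Finiteness.Cardinality

/-!
# The index of a matrix is the index of its determinant

Over a `k`-algebra `R` with an element `f` such that `R ⧸ (f)` is finite-dimensional and `R[1/f]` has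
finitely many maximal ideals, a square matrix invertible over `R[1/f]` has the same index as the
multiplication by its determinant.
-/

universe u v w

set_option autoImplicit false
set_option linter.style.haveILetI false

noncomputable section

namespace GrothLib.DegDet

open Module Matrix

variable (k : Type u) [Field k] {R : Type v} [CommRing R] [Algebra k R]

/-- A square matrix as a map of `k`-vector spaces. -/
def mmap {ι : Type w} [Fintype ι] (A : Matrix ι ι R) : (ι → R) →ₗ[k] (ι → R) :=
  A.mulVecLin.restrictScalars k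

/-- The index of a matrix. -/
def idx {ι : Type w} [Fintype ι] (A : Matrix ι ι R) : ℤ := lidx (mmap k A)

/-- Multiplication by a scalar as a matrix. -/
def scal (a : R) : Matrix Unit Unit R := fun _ _ => a

theorem mmap_apply {ι : Type w} [Fintype ι] (A : Matrix ι ι R) (x : ι → R) : mmap k A x = A *ᵥ x := rfl

theorem idx_of_det_unit {ι : Type w} [Fintype ι] [DecidableEq ι] {A : Matrix ι ι R} (hA : IsUnit A.det) :
    IsIdx (mmap k A) ∧ idx k A = 0 :=
  lidx_of_bijective (show Function.Bijective A.mulVec from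
    ⟨Matrix.mulVec_injective_of_isUnit ((Matrix.isUnit_iff_isUnit_det A).mpr hA),
      Matrix.mulVec_surjective_iff_isUnit.mpr ((Matrix.isUnit_iff_isUnit_det A).mpr hA)⟩)

theorem idx_mul {ι : Type w} [Fintype ι] {A B : Matrix ι ι R} (hA : IsIdx (mmap k A))
    (hB : IsIdx (mmap k B)) : IsIdx (mmap k (A * B)) ∧ idx k (A * B) = idx k A + idx k B := by
  have e : mmap k (A * B) = (mmap k A).comp (mmap k B) := by
    ext x : 1
    exact (Matrix.mulVec_mulVec x A B).symm
  show IsIdx (mmap k (A * B)) ∧ lidx (mmap k (A * B)) = _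
  rw [e]
  exact lidx_comp hA hB

theorem idx_scal_mul {a b : R} (ha : IsIdx (mmap k (scal a))) (hb : IsIdx (mmap k (scal b))) :
    IsIdx (mmap k (scal (a * b))) ∧ idx k (scal (a * b)) = idx k (scal a) + idx k (scal b) := by
  have e : scal (a * b) = scal a * scal b := by
    ext i j
    simp [scal, Matrix.mul_apply]
  rw [e]
  exact idx_mul k ha hb

/-- The index does not depend on the names of the rows. -/
theorem idx_reindex {ι κ : Type w} [Fintype ι] [Fintype κ] (e : κ ≃ ι) {A : Matrix ι ι R}
    (hA : IsIdx (mmap k A)) :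
    IsIdx (mmap k (A.submatrix e e)) ∧ idx k (A.submatrix e e) = idx k A := by
  let c : (κ → R) ≃ₗ[k] (ι → R) := LinearEquiv.funCongrLeft k R e.symm
  have h : mmap k (A.submatrix e e) = c.symm.toLinearMap.comp ((mmap k A).comp c.toLinearMap) := by
    ext x : 1
    funext j
    show (A.submatrix e e *ᵥ x) j = (A *ᵥ (x ∘ e.symm)) (e j)
    rw [Matrix.submatrix_mulVec_equiv]
    rfl
  show IsIdx (mmap k (A.submatrix e e)) ∧ lidx (mmap k (A.submatrix e e)) = _
  rw [h]
  exact lidx_conj hA c c.symm

/-- Block diagonal matrices add indices. -/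
theorem idx_fromBlocks_zero {ι κ : Type w} [Fintype ι] [Fintype κ] {A : Matrix ι ι R} {D : Matrix κ κ R}
    (hA : IsIdx (mmap k A)) (hD : IsIdx (mmap k D)) (h : IsIdx (mmap k (Matrix.fromBlocks A 0 0 D))) :
    idx k (Matrix.fromBlocks A 0 0 D) = idx k A + idx k D := by
  let c : ((ι ⊕ κ) → R) ≃ₗ[k] (ι → R) × (κ → R) := LinearEquiv.sumArrowLequivProdArrow ι κ k R
  have e : mmap k (Matrix.fromBlocks A 0 0 D) = c.symm.toLinearMap.comp (((mmap k A).prodMap (mmap k D)).comp c.toLinearMap) := by
    ext x : 1
    apply c.injective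
    simp only [LinearMap.coe_comp, LinearEquiv.coe_coe, Function.comp_apply, LinearEquiv.apply_symm_apply]
    refine Prod.ext (funext fun i => ?_) (funext fun j => ?_)
    · show (Matrix.fromBlocks A 0 0 D *ᵥ x) (Sum.inl i) = (A *ᵥ (x ∘ Sum.inl)) i
      simp [Matrix.fromBlocks_mulVec]
    · show (Matrix.fromBlocks A 0 0 D *ᵥ x) (Sum.inr j) = (D *ᵥ (x ∘ Sum.inr)) j
      simp [Matrix.fromBlocks_mulVec]
  have hp : IsIdx ((mmap k A).prodMap (mmap k D)) := by
    have e' : (mmap k A).prodMap (mmap k D) = c.toLinearMap.comp ((mmap k (Matrix.fromBlocks A 0 0 D)).comp c.symm.toLinearMap) := by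
      rw [e]; refine LinearMap.ext fun x => ?_; simp
    rw [e']; exact (lidx_conj h c.symm c).1
  show lidx _ = _
  rw [e, (lidx_conj hp c c.symm).2, lidx_prodMap hA hD]
  rfl

section Away

variable [IsNoetherianRing R] (f : R) [Module.Finite k (R ⧸ Ideal.span {f})]

include f in
/-- Finite modules killed by a power of `f` are finite-dimensional. -/
theorem finite_of_pow_smul_eq_zero {N : Type*} [AddCommGroup N] [Module R N] [Module k N] [IsScalarTower k R N]
    [Module.Finite R N] (n : ℕ) (h : ∀ x : N, f ^ n • x = 0) : Module.Finite k N := by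
  induction n generalizing N with
  | zero =>
    haveI : Subsingleton N := subsingleton_of_forall_eq 0 fun x => by simpa using h x
    infer_instance
  | succ n ih =>
    let μ : N →ₗ[R] N := LinearMap.lsmul R N f
    haveI : IsNoetherian R N := isNoetherian_of_isNoetherianRing_of_finite R N
    haveI : Module.Finite k (LinearMap.range μ) := ih fun ⟨_, x, rfl⟩ => Subtype.ext (by
      show f ^ n • f • x = 0
      rw [smul_smul, ← pow_succ]; exact h x)
    haveI : Module.Finite k (N ⧸ LinearMap.range μ) := by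
      obtain ⟨m, π, hπ⟩ := Module.Finite.exists_fin' R (N ⧸ LinearMap.range μ)
      have hle : ∀ a, a ∈ Ideal.span ({f} : Set R) → ∀ x : N ⧸ LinearMap.range μ, a • x = 0 := by
        intro a ha x
        obtain ⟨b, rfl⟩ := Ideal.mem_span_singleton'.mp ha
        obtain ⟨x, rfl⟩ := Submodule.Quotient.mk_surjective _ x
        rw [← Submodule.Quotient.mk_smul, Submodule.Quotient.mk_eq_zero]
        exact ⟨b • x, by show f • b • x = _; rw [smul_smul, mul_comm]⟩
      let σ : (Fin m → R ⧸ Ideal.span ({f} : Set R)) →ₗ[k] N ⧸ LinearMap.range μ :=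
        ∑ i, ((Submodule.liftQ (Ideal.span ({f} : Set R)) (LinearMap.toSpanSingleton R _ (π (Pi.single i 1)))
          (fun a ha => hle a ha _)).restrictScalars k).comp (LinearMap.proj i)
      refine Module.Finite.of_surjective σ fun y => ?_
      obtain ⟨a, rfl⟩ := hπ y
      refine ⟨fun i => Submodule.Quotient.mk (a i), ?_⟩
      conv_rhs => rw [pi_eq_sum_univ' a, map_sum]
      simp only [σ, LinearMap.sum_apply, LinearMap.coe_comp, Function.comp_apply, LinearMap.proj_apply,
        LinearMap.coe_restrictScalars, Submodule.liftQ_apply, LinearMap.toSpanSingleton_apply, map_smul]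
    haveI : Module.Finite k ((LinearMap.range μ).restrictScalars k) := ‹Module.Finite k (LinearMap.range μ)›
    haveI : Module.Finite k (N ⧸ (LinearMap.range μ).restrictScalars k) :=
      Module.Finite.equiv (Submodule.Quotient.restrictScalarsEquiv k (LinearMap.range μ)).symm
    exact Module.Finite.of_submodule_quotient ((LinearMap.range μ).restrictScalars k)

variable {L : Type*} [CommRing L] [Algebra R L] [IsLocalization.Away f L]

include f in
/-- A matrix invertible over `R[1/f]` has finite index. -/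
theorem isIdx_mmap {ι : Type w} [Fintype ι] [DecidableEq ι] {A : Matrix ι ι R}
    (hA : IsUnit (algebraMap R L A.det)) : IsIdx (mmap k A) := by
  obtain ⟨b, n, hb⟩ : ∃ (b : R) (n : ℕ), b * A.det = f ^ n := by
    obtain ⟨y, hy⟩ := hA.exists_left_inv
    obtain ⟨n, c, hc⟩ := IsLocalization.Away.surj f y
    have h1 : algebraMap R L (c * A.det) = algebraMap R L (f ^ n) := by
      rw [map_mul, map_pow, ← hc, mul_right_comm, hy, one_mul]
    obtain ⟨⟨_, m, rfl⟩, hm⟩ := (IsLocalization.eq_iff_exists (Submonoid.powers f) L).mp h1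
    exact ⟨f ^ m * c, m + n, by rw [mul_assoc, pow_add]; exact hm⟩
  let B := b • A.adjugate
  have hAB : A * B = f ^ n • (1 : Matrix ι ι R) := by
    rw [Matrix.mul_smul, Matrix.mul_adjugate, smul_smul, hb]
  have hBA : B * A = f ^ n • (1 : Matrix ι ι R) := by
    rw [Matrix.smul_mul, Matrix.adjugate_mul, smul_smul, hb]
  haveI : IsNoetherian R (ι → R) := isNoetherian_of_isNoetherianRing_of_finite R _
  constructor
  · haveI : Module.Finite R (LinearMap.ker A.mulVecLin) := inferInstance
    have := finite_of_pow_smul_eq_zero k f (N := LinearMap.ker A.mulVecLin) n fun x => Subtype.ext (by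
      have h1 : B *ᵥ (A *ᵥ (x : ι → R)) = 0 := by
        rw [show A *ᵥ (x : ι → R) = 0 from x.2, Matrix.mulVec_zero]
      rw [Matrix.mulVec_mulVec, hBA, Matrix.smul_mulVec, Matrix.one_mulVec] at h1
      exact h1)
    exact this
  · have := finite_of_pow_smul_eq_zero k f (N := (ι → R) ⧸ LinearMap.range A.mulVecLin) n fun x => by
      obtain ⟨x, rfl⟩ := Submodule.Quotient.mk_surjective _ x
      rw [← Submodule.Quotient.mk_smul, Submodule.Quotient.mk_eq_zero]
      refine ⟨B *ᵥ x, ?_⟩
      rw [Matrix.mulVecLin_apply, Matrix.mulVec_mulVec, hAB, Matrix.smul_mulVec, Matrix.one_mulVec]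
    let e : ((ι → R) ⧸ LinearMap.range A.mulVecLin) ≃ₗ[k] (ι → R) ⧸ LinearMap.range (mmap k A) :=
      (Submodule.Quotient.restrictScalarsEquiv k (LinearMap.range A.mulVecLin)).symm ≪≫ₗ
        Submodule.quotEquivOfEq _ _ (LinearMap.range_restrictScalars A.mulVecLin).symm
    exact e.finiteDimensional

/-- The index agrees with that of the determinant. -/
def Good {ι : Type w} [Fintype ι] [DecidableEq ι] (A : Matrix ι ι R) : Prop :=
  IsUnit (algebraMap R L A.det) ∧ idx k A = idx k (scal A.det)

theorem isUnit_scal {a : R} (ha : IsUnit (algebraMap R L a)) : IsUnit (algebraMap R L (scal a).det) := by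
  rwa [Matrix.det_unique]

include f in
theorem Good.mul {ι : Type w} [Fintype ι] [DecidableEq ι] {A B : Matrix ι ι R}
    (hA : Good k (L := L) A) (hB : Good k (L := L) B) : Good k (L := L) (A * B) := by
  refine ⟨by rw [Matrix.det_mul, map_mul]; exact hA.1.mul hB.1, ?_⟩
  rw [(idx_mul k (isIdx_mmap k f hA.1) (isIdx_mmap k f hB.1)).2, hA.2, hB.2, Matrix.det_mul,
    (idx_scal_mul k (isIdx_mmap k f (isUnit_scal hA.1)) (isIdx_mmap k f (isUnit_scal hB.1))).2]

include f in
theorem Good.cancel {ι : Type w} [Fintype ι] [DecidableEq ι] {A B C : Matrix ι ι R}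
    (hA : Good k (L := L) A) (hC : Good k (L := L) C) (hB : IsUnit (algebraMap R L B.det))
    (h : Good k (L := L) (A * B * C)) : Good k (L := L) B := by
  refine ⟨hB, ?_⟩
  have iA := isIdx_mmap k f hA.1
  have iB := isIdx_mmap k f hB
  have iC := isIdx_mmap k f hC.1
  have sA := isIdx_mmap k f (isUnit_scal hA.1)
  have sB := isIdx_mmap k f (isUnit_scal hB)
  have sC := isIdx_mmap k f (isUnit_scal hC.1)
  have h' := h.2
  rw [(idx_mul k (idx_mul k iA iB).1 iC).2, (idx_mul k iA iB).2, Matrix.det_mul, Matrix.det_mul,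
    (idx_scal_mul k (idx_scal_mul k sA sB).1 sC).2, (idx_scal_mul k sA sB).2, hA.2, hC.2] at h'
  linarith

omit [IsNoetherianRing R] [Module.Finite k (R ⧸ Ideal.span {f})] [IsLocalization.Away f L] in
theorem good_of_det_eq_one {ι : Type w} [Fintype ι] [DecidableEq ι] {A : Matrix ι ι R} (h : A.det = 1) :
    Good k (L := L) A := by
  refine ⟨by rw [h, map_one]; exact isUnit_one, ?_⟩
  rw [h, (idx_of_det_unit k (A := A) (by rw [h]; exact isUnit_one)).2,
    (idx_of_det_unit k (A := scal (1 : R)) (by rw [Matrix.det_unique]; exact isUnit_one)).2]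

theorem idx_one {ι : Type w} [Fintype ι] [DecidableEq ι] : idx k (1 : Matrix ι ι R) = 0 :=
  (idx_of_det_unit k (by rw [Matrix.det_one]; exact isUnit_one)).2

include f in
theorem good_fromBlocks {ι κ : Type w} [Fintype ι] [Fintype κ] [DecidableEq ι] [DecidableEq κ]
    {A : Matrix ι ι R} {D : Matrix κ κ R} (hA : Good k (L := L) A) (hD : Good k (L := L) D) :
    Good k (L := L) (Matrix.fromBlocks A 0 0 D) := by
  have hu : IsUnit (algebraMap R L (Matrix.fromBlocks A 0 0 D).det) := by
    rw [Matrix.det_fromBlocks_zero₂₁, map_mul]; exact hA.1.mul hD.1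
  refine ⟨hu, ?_⟩
  rw [idx_fromBlocks_zero k (isIdx_mmap k f hA.1) (isIdx_mmap k f hD.1) (isIdx_mmap k f hu), hA.2, hD.2,
    Matrix.det_fromBlocks_zero₂₁,
    (idx_scal_mul k (isIdx_mmap k f (isUnit_scal hA.1)) (isIdx_mmap k f (isUnit_scal hD.1))).2]

include f in
theorem good_reindex {ι κ : Type w} [Fintype ι] [Fintype κ] [DecidableEq ι] [DecidableEq κ] (e : κ ≃ ι)
    {A : Matrix ι ι R} (hA : Good k (L := L) A) : Good k (L := L) (A.submatrix e e) := by
  refine ⟨by rw [Matrix.det_submatrix_equiv_self]; exact hA.1, ?_⟩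
  rw [(idx_reindex k e (isIdx_mmap k f hA.1)).2, Matrix.det_submatrix_equiv_self]
  exact hA.2

include f in
theorem good_scalar (a : R) (ha : IsUnit (algebraMap R L a)) :
    ∀ n : ℕ, Good k (L := L) (a • (1 : Matrix (Fin n) (Fin n) R)) := by
  intro n
  induction n with
  | zero => exact good_of_det_eq_one k (Matrix.det_isEmpty)
  | succ n ih =>
    have h1 : Good k (L := L) (a • (1 : Matrix (Fin 1) (Fin 1) R)) := by
      refine ⟨by simpa using ha, ?_⟩
      have e : (scal a : Matrix Unit Unit R).submatrix finOneEquiv finOneEquiv = a • (1 : Matrix (Fin 1) (Fin 1) R) := by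
        ext i j; simp [scal, Subsingleton.elim i j]
      conv_lhs => rw [← e, (idx_reindex k _ (isIdx_mmap k f (isUnit_scal ha))).2]
      simp
    have h2 := good_reindex k f (finSumFinEquiv (m := 1) (n := n)).symm (good_fromBlocks k f h1 ih)
    have e : (Matrix.fromBlocks (a • (1 : Matrix (Fin 1) (Fin 1) R)) 0 0 (a • 1)).submatrix
        (finSumFinEquiv (m := 1) (n := n)).symm (finSumFinEquiv (m := 1) (n := n)).symm =
        a • (1 : Matrix (Fin (1 + n)) (Fin (1 + n)) R) := by
      rw [show Matrix.fromBlocks (a • (1 : Matrix (Fin 1) (Fin 1) R)) 0 0 (a • 1) = a • (1 : Matrix _ _ R) by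
        rw [← Matrix.fromBlocks_one, Matrix.fromBlocks_smul]; simp]
      ext i j
      simp [Matrix.one_apply]
    rw [e] at h2
    rwa [show 1 + n = n + 1 from add_comm 1 n] at h2

omit [IsNoetherianRing R] [Algebra k R] [Module.Finite k (R ⧸ Ideal.span {f})] [IsLocalization.Away f L] in
/-- A unimodular column over a semilocal ring can be shortened to a unit. -/
theorem exists_unit_combination [Finite (MaximalSpectrum L)] {κ : Type w} [Fintype κ] (v₀ : L) (v : κ → L)
    (h : ∀ m : Ideal L, m.IsMaximal → v₀ ∈ m → ∃ j, v j ∉ m) : ∃ c : κ → L, IsUnit (v₀ + ∑ j, c j * v j) := by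
  classical
  have hcop : Pairwise (Function.onFun IsCoprime fun m : MaximalSpectrum L => m.asIdeal) := fun a b hab =>
    Ideal.isCoprime_iff_sup_eq.mpr (a.isMaximal.coprime_of_ne b.isMaximal fun h => hab (MaximalSpectrum.ext h))
  choose jm hjm using fun (m : MaximalSpectrum L) (hm : v₀ ∈ m.asIdeal) => h m.asIdeal m.isMaximal hm
  have := fun j : κ => Ideal.exists_forall_sub_mem_ideal hcop
    fun m : MaximalSpectrum L => if hm : v₀ ∈ m.asIdeal then (if jm m hm = j then (1 : L) else 0) else 0
  choose c hc using this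
  refine ⟨c, by_contra fun hu => ?_⟩
  obtain ⟨m, hm, hum⟩ := exists_max_ideal_of_mem_nonunits hu
  let M : MaximalSpectrum L := ⟨m, hm⟩
  have hsum : ∀ d : κ → L, (∀ j, c j - d j ∈ m) → (∑ j, c j * v j) - ∑ j, d j * v j ∈ m := fun d hd => by
    rw [← Finset.sum_sub_distrib]
    exact m.sum_mem fun j _ => by rw [← sub_mul]; exact m.mul_mem_right _ (hd j)
  by_cases hv : v₀ ∈ m
  · have h1 := hsum (fun j => if jm M hv = j then 1 else 0) fun j => by simpa [M, hv] using hc j M
    simp only [ite_mul, one_mul, zero_mul, Finset.sum_ite_eq, Finset.mem_univ, if_true] at h1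
    refine hjm M hv ?_
    have h2 := sub_mem (sub_mem hum hv) h1
    rwa [add_sub_cancel_left, sub_sub_cancel] at h2
  · have h1 := hsum (fun _ => 0) fun j => by simpa [M, hv] using hc j M
    simp only [zero_mul, Finset.sum_const_zero, sub_zero] at h1
    refine hv ?_
    have h2 := sub_mem hum h1
    rwa [add_sub_cancel_right] at h2

include f in
/-- The index of a matrix invertible over `R[1/f]` is the index of its determinant. -/
theorem good_of_isUnit [Finite (MaximalSpectrum L)] : ∀ (n : ℕ) (A : Matrix (Fin n) (Fin n) R),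
    IsUnit (algebraMap R L A.det) → Good k (L := L) A := by
  intro n
  induction n with
  | zero => exact fun A _ => good_of_det_eq_one k Matrix.det_isEmpty
  | succ n ih =>
    intro A hA
    classical
    -- split off the first coordinate
    let e : Fin (1 + n) ≃ Fin (n + 1) := finCongr (add_comm 1 n)
    let σ : Fin 1 ⊕ Fin n ≃ Fin (n + 1) := finSumFinEquiv.trans e
    let B := A.submatrix σ σ
    have hB : IsUnit (algebraMap R L B.det) := by rw [Matrix.det_submatrix_equiv_self]; exact hA
    suffices hgood : Good k (L := L) B by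
      have h := good_reindex k f σ.symm hgood
      rwa [show B.submatrix σ.symm σ.symm = A by simp [B, Matrix.submatrix_submatrix]] at h
    clear_value B
    obtain ⟨b₁, b₂, b₃, b₄, rfl⟩ : ∃ b₁ b₂ b₃ b₄, Matrix.fromBlocks b₁ b₂ b₃ b₄ = B :=
      ⟨_, _, _, _, Matrix.fromBlocks_toBlocks B⟩
    -- a unit pivot after a row operation
    let BL := (Matrix.fromBlocks b₁ b₂ b₃ b₄).map (algebraMap R L)
    obtain ⟨c, hc⟩ := exists_unit_combination (algebraMap R L (b₁ 0 0)) (fun j => algebraMap R L (b₃ j 0))
      fun m hm h0 => by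
        by_contra hall
        push Not at hall
        refine hm.ne_top (m.eq_top_of_isUnit_mem (x := algebraMap R L (Matrix.fromBlocks b₁ b₂ b₃ b₄).det) ?_ hB)
        rw [Matrix.det_apply, map_sum]
        refine m.sum_mem fun π _ => ?_
        rw [Units.smul_def, map_zsmul, map_prod]
        refine zsmul_mem (Ideal.mem_of_dvd m (Finset.dvd_prod_of_mem _ (Finset.mem_univ (Sum.inl 0))) ?_) _
        rcases hπ : π (Sum.inl 0) with i | j
        · rw [Subsingleton.elim i 0]
          exact h0
        · exact hall j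
    obtain ⟨⟨_, N, rfl⟩, hN⟩ := IsLocalization.exist_integer_multiples_of_finite (Submonoid.powers f) c
    choose c' hc' using hN
    let T : Matrix (Fin 1) (Fin n) R := fun _ j => c' j
    let u : R := f ^ N * b₁ 0 0 + ∑ j, c' j * b₃ j 0
    have hfu : IsUnit (algebraMap R L (f ^ N)) := by
      rw [map_pow]; exact (IsLocalization.Away.algebraMap_isUnit f).pow N
    have hu : IsUnit (algebraMap R L u) := by
      have hh : algebraMap R L u = algebraMap R L (f ^ N) *
          (algebraMap R L (b₁ 0 0) + ∑ j, c j * algebraMap R L (b₃ j 0)) := by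
        simp only [u, map_add, map_mul, map_sum, mul_add, Finset.mul_sum]
        congr 1
        refine Finset.sum_congr rfl fun j _ => ?_
        rw [hc' j, Algebra.smul_def, mul_assoc]
      rw [hh]
      exact hfu.mul hc
    -- the three steps
    let S₁ : Matrix (Fin 1 ⊕ Fin n) (Fin 1 ⊕ Fin n) R :=
      Matrix.fromBlocks 1 T 0 1 * Matrix.fromBlocks (f ^ N • 1) 0 0 1
    let r : Matrix (Fin 1) (Fin n) R := f ^ N • b₂ + T * b₄
    let D' : Matrix (Fin n) (Fin n) R := u • b₄ - b₃ * r
    let S₂ : Matrix (Fin 1 ⊕ Fin n) (Fin 1 ⊕ Fin n) R :=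
      Matrix.fromBlocks 1 0 0 (u • 1) * Matrix.fromBlocks 1 (-r) 0 1
    have g1 : Good k (L := L) S₁ := by
      refine Good.mul k f (good_of_det_eq_one k (by simp [Matrix.det_fromBlocks_zero₂₁])) ?_
      exact good_fromBlocks k f (good_scalar k f _ hfu 1) (good_of_det_eq_one k Matrix.det_one)
    have g2 : Good k (L := L) S₂ :=
      Good.mul k f (good_fromBlocks k f (good_of_det_eq_one k Matrix.det_one) (good_scalar k f u hu n))
        (good_of_det_eq_one k (by simp [Matrix.det_fromBlocks_zero₂₁]))
    refine Good.cancel k f g1 g2 hB ?_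
    have hu00 : f ^ N • b₁ + T * b₃ = u • (1 : Matrix (Fin 1) (Fin 1) R) := by
      ext i j
      rw [Subsingleton.elim i 0, Subsingleton.elim j 0]
      simp [u, T, Matrix.mul_apply]
    have h1 : S₁ = Matrix.fromBlocks (f ^ N • 1) T 0 1 := by
      simp [S₁, Matrix.fromBlocks_multiply]
    have h2 : S₂ = Matrix.fromBlocks 1 (-r) 0 (u • 1) := by
      simp [S₂, Matrix.fromBlocks_multiply]
    have h3 : S₁ * Matrix.fromBlocks b₁ b₂ b₃ b₄ = Matrix.fromBlocks (u • 1) r b₃ b₄ := by
      rw [h1, Matrix.fromBlocks_multiply, Matrix.smul_mul, Matrix.one_mul, hu00]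
      congr 1
      · simp only [r, Matrix.smul_mul, Matrix.one_mul]
      · simp
      · simp
    have hrhs : Matrix.fromBlocks (u • (1 : Matrix (Fin 1) (Fin 1) R)) 0 0 1 * Matrix.fromBlocks 1 0 b₃ 1 *
        Matrix.fromBlocks 1 0 0 D' = Matrix.fromBlocks (u • 1) 0 b₃ D' := by
      simp [Matrix.fromBlocks_multiply]
    have hprod : S₁ * Matrix.fromBlocks b₁ b₂ b₃ b₄ * S₂ =
        Matrix.fromBlocks (u • 1) 0 0 1 * Matrix.fromBlocks 1 0 b₃ 1 * Matrix.fromBlocks 1 0 0 D' := by
      rw [hrhs, h3, h2, Matrix.fromBlocks_multiply]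
      congr 1
      · simp
      · simp [Matrix.mul_neg]
      · simp
      · simp only [D', Matrix.mul_neg, Matrix.mul_smul, Matrix.mul_one]
        rw [sub_eq_add_neg, add_comm]
    have hdet : IsUnit (algebraMap R L D'.det) := by
      have hX : IsUnit (algebraMap R L (S₁ * Matrix.fromBlocks b₁ b₂ b₃ b₄ * S₂).det) := by
        rw [Matrix.det_mul, Matrix.det_mul, map_mul, map_mul]
        exact (g1.1.mul hB).mul g2.1
      rw [hprod, Matrix.det_mul, Matrix.det_mul, map_mul, Matrix.det_fromBlocks_zero₁₂ 1 0 D', map_mul] at hX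
      have h4 := isUnit_of_mul_isUnit_right hX
      rwa [Matrix.det_one, one_mul] at h4
    rw [hprod]
    refine Good.mul k f (Good.mul k f ?_ (good_of_det_eq_one k (by simp))) ?_
    · exact good_fromBlocks k f (good_scalar k f u hu 1) (good_of_det_eq_one k Matrix.det_one)
    · exact good_fromBlocks k f (good_of_det_eq_one k Matrix.det_one) (ih D' hdet)

include f in
theorem idx_eq_idx_det [Finite (MaximalSpectrum L)] {n : ℕ} (A : Matrix (Fin n) (Fin n) R)
    (hA : IsUnit (algebraMap R L A.det)) : idx k A = idx k (scal A.det) :=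
  (good_of_isUnit k f n A hA).2

end Away

end GrothLib.DegDet
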