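import Groth.Agent.Lib.Euler.GenericCompare
import Groth.Agent.Lib.CurveMult.EtaleEuler
import Groth.Agent.Lib.AffDom.Over
import Groth.Agent.Lib.Zeta.Points
import Groth.Agent.Lib.DegDet.MatIdx

/-!
# The Euler characteristic of a bundle from `n` global sections that generate generically
-/

universe u

set_option autoImplicit false
set_option linter.style.haveILetI false
set_option backward.isDefEq.respectTransparency false

open CategoryTheory CategoryTheory.Limits AlgebraicGeometry TopologicalSpace Opposite

noncomputable section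

namespace GrothLib.DegDet

open GrothLib.QCoh (stalkLin)
open GrothLib.FinCov (IsFrame)

variable {X : Scheme.{u}}

/-- The standard sections of a free module. -/
def freeSec (X : Scheme.{u}) (n : ℕ) (i : Fin n) : Γ(FlatMod.freeMod X n, ⊤) :=
  (Sigma.ι (fun _ : Fin n => Coh.structureModule X) i).app ⊤ (FinCov.one X ⊤)

theorem isFrame_freeSec (X : Scheme.{u}) (n : ℕ) :
    IsFrame (FlatMod.freeMod X n) ⊤ (freeSec X n) := by
  classical
  intro W hW
  let ιm : ∀ _ : Fin n, Coh.structureModule X ⟶ FlatMod.freeMod X n := fun i =>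
    Sigma.ι (fun _ : Fin n => Coh.structureModule X) i
  let C : Γ(FlatMod.freeMod X n, W) → (Fin n → Γ(X, W)) := fun x i => (FinCov.proj X n i).app W x
  have hC : Function.Bijective fun c : Fin n → Γ(X, W) => ∑ i, (ιm i).app W (c i) := by
    refine Function.bijective_iff_has_inverse.2 ⟨C, fun c => funext fun j => ?_, fun x => ?_⟩
    · show (FinCov.proj X n j).app W (∑ i, (ιm i).app W (c i)) = c j
      rw [map_sum, Finset.sum_eq_single j]
      · show (ιm j ≫ FinCov.proj X n j).app W (c j) = c j
        rw [FinCov.ι_proj, if_pos rfl]; rfl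
      · intro i _ hi
        show (ιm i ≫ FinCov.proj X n j).app W (c i) = 0
        rw [FinCov.ι_proj, if_neg hi]; rfl
      · simp
    · show ∑ i, (FinCov.proj X n i ≫ ιm i).app W x = x
      rw [← FinCov.sum_app, FinCov.sum_proj_ι]; rfl
  refine Eq.mpr (congrArg Function.Bijective (funext fun c => ?_)) hC
  refine Finset.sum_congr rfl fun i _ => ?_
  have h1 : (ιm i).app W (FinCov.one X W) =
      (FlatMod.freeMod X n).presheaf.map (homOfLE hW).op (freeSec X n i) := by
    have := congr($((ιm i).mapPresheaf.naturality (homOfLE hW).op) (FinCov.one X ⊤))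
    refine Eq.trans ?_ this
    show (ιm i).app W (FinCov.one X W) = (ιm i).app W ((Coh.structureModule X).presheaf.map (homOfLE hW).op (FinCov.one X ⊤))
    congr 1
    exact (map_one (X.presheaf.map (homOfLE hW).op).hom).symm
  rw [← h1, ← Scheme.Modules.Hom.app_smul, FinCov.smul_one]

theorem isCoh_freeMod (X : Scheme.{u}) (n : ℕ) : Coh.IsCoh (FlatMod.freeMod X n) :=
  Euler.isCoh_of_isFinLocFree fun x => ⟨⊤, n, trivial, ⟨DCoh.restrictFreeModIso _ n⟩⟩

variable (k : Type u) [Field k] [X.Over (Spec (CommRingCat.of k))]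

attribute [local instance] Curv2.stalkAlgebra

/-- The quotient of a local ring at a closed point by an element vanishing only there is finite over `k`. -/
theorem finite_quotient [LocallyOfFiniteType (X ↘ Spec (CommRingCat.of k))] {x : X}
    (hx : IsClosed ({x} : Set X)) (f : X.presheaf.stalk x)
    (hf : ∀ P : Ideal (X.presheaf.stalk x), P.IsPrime → f ∈ P → P = IsLocalRing.maximalIdeal (X.presheaf.stalk x)) :
    Module.Finite k (X.presheaf.stalk x ⧸ Ideal.span {f}) := by
  haveI : IsLocallyNoetherian X := LocallyOfFiniteType.isLocallyNoetherian (X ↘ Spec (CommRingCat.of k))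
  let R := X.presheaf.stalk x
  let J : Ideal R := Ideal.span {f}
  obtain ⟨N, hN⟩ : ∃ N, IsLocalRing.maximalIdeal R ^ N ≤ J := by
    refine Ideal.exists_pow_le_of_le_radical_of_fg ?_ (IsNoetherian.noetherian _)
    rw [Ideal.radical_eq_sInf]
    refine le_sInf fun P hP => ?_
    rw [hf P hP.2 (hP.1 (Ideal.mem_span_singleton_self f))]
  have hres : Module.Finite k (IsLocalRing.ResidueField R) := by
    have h := (Zeta.isClosed_iff_finite (X ↘ Spec (CommRingCat.of k)) x).1 hx
    rw [AffDom.toRes_eq_resMap] at h
    exact h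
  -- induction along powers of the maximal ideal
  have key : ∀ j : ℕ, Module.Finite k (R ⧸ (IsLocalRing.maximalIdeal R ^ j ⊔ J)) := by
    intro j
    induction j with
    | zero =>
      haveI : Subsingleton (R ⧸ (IsLocalRing.maximalIdeal R ^ 0 ⊔ J)) :=
        Submodule.Quotient.subsingleton_iff.mpr (by simp)
      infer_instance
    | succ j ih =>
      haveI := ih
      let A := IsLocalRing.maximalIdeal R ^ (j + 1) ⊔ J
      let B := IsLocalRing.maximalIdeal R ^ j ⊔ J
      have hAB : A ≤ B := sup_le_sup_right (Ideal.pow_le_pow_right (Nat.le_succ j)) _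
      let π : (R ⧸ A) →ₗ[R] R ⧸ B := Submodule.factor hAB
      -- the kernel is spanned over the residue field by finitely many elements
      obtain ⟨s, hs⟩ : B.FG := IsNoetherian.noetherian _
      have hkill : ∀ a ∈ IsLocalRing.maximalIdeal R, ∀ b ∈ B, a * b ∈ A := by
        intro a ha b hb
        obtain ⟨b₁, hb₁, b₂, hb₂, rfl⟩ := Submodule.mem_sup.1 hb
        rw [mul_add]
        exact add_mem (Ideal.mem_sup_left (by rw [pow_succ']; exact Ideal.mul_mem_mul ha hb₁))
          (Ideal.mem_sup_right (Ideal.mul_mem_left _ _ hb₂))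
      let σ : (s → IsLocalRing.ResidueField R) →ₗ[k] R ⧸ A :=
        ∑ b : s, ((Submodule.liftQ (IsLocalRing.maximalIdeal R) (LinearMap.toSpanSingleton R (R ⧸ A)
          (Submodule.Quotient.mk (b : R))) (fun a ha => by
            rw [LinearMap.mem_ker, LinearMap.toSpanSingleton_apply, ← Submodule.Quotient.mk_smul,
              Submodule.Quotient.mk_eq_zero]
            exact hkill a ha _ (hs ▸ Submodule.subset_span b.2))).restrictScalars k).comp (LinearMap.proj b)
      have hker : LinearMap.ker (π.restrictScalars k) ≤ LinearMap.range σ := by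
        intro z hz
        obtain ⟨z, rfl⟩ := Submodule.Quotient.mk_surjective _ z
        have hzB : z ∈ B := (Submodule.Quotient.mk_eq_zero _).mp hz
        rw [← hs, Submodule.mem_span_finset] at hzB
        obtain ⟨c, -, hc⟩ := hzB
        refine ⟨fun b => IsLocalRing.residue R (c b), ?_⟩
        rw [← hc, ← Finset.sum_coe_sort]
        refine Eq.trans ?_ (map_sum (Submodule.mkQ A) _ _).symm
        simp only [σ, LinearMap.sum_apply, LinearMap.coe_comp, Function.comp_apply, LinearMap.proj_apply,
          LinearMap.coe_restrictScalars]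
        refine Finset.sum_congr rfl fun b _ => ?_
        show c b • (Submodule.Quotient.mk (b : R) : R ⧸ A) = _
        rfl
      haveI : Module.Finite k (LinearMap.ker (π.restrictScalars k)) :=
        Module.Finite.of_injective (Submodule.inclusion hker) (Submodule.inclusion_injective hker)
      haveI : Module.Finite k ((R ⧸ A) ⧸ LinearMap.ker (π.restrictScalars k)) :=
        Module.Finite.equiv ((π.restrictScalars k).quotKerEquivOfSurjective (Submodule.factor_surjective hAB)).symm
      exact Module.Finite.of_submodule_quotient (LinearMap.ker (π.restrictScalars k))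
  haveI := key N
  exact Module.Finite.equiv ((Submodule.quotEquivOfEq _ _ (sup_eq_right.2 hN)).restrictScalars k)

/-- The dimension of the sections of a module with finite support is the sum over its stalks. -/
theorem finrank_H0_eq_sum [IsProper (X ↘ Spec (CommRingCat.of k))] {M : X.Modules} (hM : Coh.IsCoh M)
    (S : Finset X) (hS : CohB1.support M ⊆ S) (hcl : ∀ x ∈ S, IsClosed ({x} : Set X))
    (W : S → Type u) [∀ x, AddCommGroup (W x)] [∀ x, Module k (W x)]
    (ψ : ∀ x : S, M.presheaf.stalk (x : X) ≃+ W x)
    (hψ : ∀ (x : S) (a : k) (m : M.presheaf.stalk (x : X)),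
      ψ x (algebraMap k (X.presheaf.stalk (x : X)) a • m) = a • ψ x m) :
    (∀ x, Module.Finite k (W x)) ∧
      Curv2.euler k X M = ∑ x : S, (Module.finrank k (W x) : ℤ) := by
  classical
  have hfin := S.finite_toSet.subset hS
  haveI := Euler.finiteDimensional_HH k hM 0
  let Φ : Coh.HH X M 0 →ₗ[k] ∀ x : S, W x :=
    { toFun := fun h x => ψ x (M.presheaf.germ ⊤ (x : X) trivial (ProjCoh.H0top M h))
      map_add' := fun a b => funext fun x => by simp only [map_add, Pi.add_apply]
      map_smul' := fun a b => funext fun x => by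
        rw [Euler.germ_H0top_smul, RingHom.id_apply, Pi.smul_apply]
        exact hψ x a _ }
  have hbij : Function.Bijective Φ := by
    refine ⟨(injective_iff_map_eq_zero Φ).2 fun h h0 => ?_, fun v => ?_⟩
    · apply (ProjCoh.H0top M).injective
      refine (QCoh.section_eq_zero_of_germ M _ fun x _ => ?_).trans (map_zero _).symm
      by_cases hx : x ∈ S
      · exact (ψ ⟨x, hx⟩).injective ((congrFun h0 ⟨x, hx⟩).trans (map_zero _).symm)
      · exact @Subsingleton.elim _ (QCoh.stalk_subsingleton_of_notMem fun h => hx (hS h)) _ _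
    · obtain ⟨s, hs⟩ := (Euler.bijective_germs M hfin fun x hx => hcl x (hS hx)).2
        fun x => (ψ ⟨x.1, hS x.2⟩).symm (v ⟨x.1, hS x.2⟩)
      refine ⟨(ProjCoh.H0top M).symm s, funext fun x => ?_⟩
      show ψ x (M.presheaf.germ ⊤ (x : X) trivial (ProjCoh.H0top M ((ProjCoh.H0top M).symm s))) = v x
      rw [AddEquiv.apply_symm_apply]
      by_cases hx : (x : X) ∈ CohB1.support M
      · rw [show M.presheaf.germ ⊤ (x : X) trivial s = _ from congrFun hs ⟨x, hx⟩]
        exact (ψ x).apply_symm_apply (v x)
      · haveI : Subsingleton (M.presheaf.stalk (x : X)) := QCoh.stalk_subsingleton_of_notMem hx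
        haveI : Subsingleton (W x) := (ψ x).symm.toEquiv.subsingleton
        exact Subsingleton.elim _ _
  haveI : Module.Finite k (∀ x : S, W x) := Module.Finite.of_surjective Φ hbij.2
  haveI hWx : ∀ x, Module.Finite k (W x) := fun x =>
    Module.Finite.of_surjective (LinearMap.proj x) (Function.surjective_eval x)
  refine ⟨hWx, ?_⟩
  rw [Euler.euler_eq_of_finite_support k M hfin fun x hx => hcl x (hS hx),
    (LinearEquiv.ofBijective Φ hbij).finrank_eq, Module.finrank_pi_fintype]
  push_cast
  rfl

/-- The Euler characteristic from sections which form a frame away from finitely many points. -/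
theorem euler_sub_eq_sum [IsProper (X ↘ Spec (CommRingCat.of k))] {n : ℕ} {M : X.Modules}
    (hM : Coh.IsCoh M) (s : Fin n → Γ(M, ⊤)) (S : Finset X) (hcl : ∀ x ∈ S, IsClosed ({x} : Set X))
    (hgood : ∀ y ∉ S, Function.Bijective fun c : Fin n → X.presheaf.stalk y =>
      ∑ i, c i • M.presheaf.germ ⊤ y trivial (s i))
    (v : ∀ x : S, Fin n → M.presheaf.stalk (x : X))
    (hv : ∀ x : S, Function.Bijective fun c : Fin n → X.presheaf.stalk (x : X) => ∑ i, c i • v x i)
    (Q : ∀ x : S, Matrix (Fin n) (Fin n) (X.presheaf.stalk (x : X)))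
    (hQ : ∀ (x : S) (i : Fin n), M.presheaf.germ ⊤ (x : X) trivial (s i) = ∑ j, Q x j i • v x j) :
    Curv2.euler k X M - n * Curv2.euler k X (Coh.structureModule X) = ∑ x : S, idx k (Q x) := by
  classical
  haveI := Euler.isNoetherian_of_proper (X := X) k
  let F := FlatMod.freeMod X n
  let φ : F ⟶ M := Sigma.desc fun i => FinCov.homOfSection (s i)
  have hF := isCoh_freeMod X n
  have hφs : ∀ (y : X) (i : Fin n), stalkLin φ y (F.presheaf.germ ⊤ y trivial (freeSec X n i)) =
      M.presheaf.germ ⊤ y trivial (s i) := by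
    intro y i
    rw [QCoh.stalkLin_germ]
    congr 1
    show (Sigma.ι (fun _ : Fin n => Coh.structureModule X) i ≫ φ).app ⊤ (FinCov.one X ⊤) = s i
    simp only [φ, Sigma.ι_desc]
    rw [FinCov.homOfSection_one]
    simp
  -- coordinates at each point
  have hcoord : ∀ (y : X) (c : Fin n → X.presheaf.stalk y),
      stalkLin φ y (∑ i, c i • F.presheaf.germ ⊤ y trivial (freeSec X n i)) =
        ∑ i, c i • M.presheaf.germ ⊤ y trivial (s i) := fun y c => by
    simp only [map_sum, map_smul, hφs]
  have hbF := fun y : X => Euler.bijective_germ_comb (isFrame_freeSec X n) (show y ∈ (⊤ : X.Opens) from trivial)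
  have hbij : ∀ y ∉ S, Function.Bijective (stalkLin φ y) := fun y hy => by
    have h := hgood y hy
    rw [show (fun c : Fin n → X.presheaf.stalk y => ∑ i, c i • M.presheaf.germ ⊤ y trivial (s i)) =
      stalkLin φ y ∘ fun c => ∑ i, c i • F.presheaf.germ ⊤ y trivial (freeSec X n i) from
        funext fun c => (hcoord y c).symm] at h
    exact (Function.Bijective.of_comp_iff _ (hbF y)).1 h
  have hK : CohB1.support (kernel φ) ⊆ S := fun x hx => by_contra fun h =>
    QCoh.notMem_support_kernel_of_injective φ (hbij x h).1 hx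
  have hC : CohB1.support (cokernel φ) ⊆ S := fun x hx => by_contra fun h =>
    QCoh.notMem_support_cokernel_of_surjective φ (hbij x h).2 hx
  -- stalks of the kernel and cokernel
  let R := fun x : S => X.presheaf.stalk (x : X)
  let eF : ∀ x : S, (Fin n → R x) ≃ₗ[R x] F.presheaf.stalk (x : X) := fun x =>
    LinearEquiv.ofBijective (Fintype.linearCombination (R x) fun i => F.presheaf.germ ⊤ (x : X) trivial (freeSec X n i))
      (by convert hbF (x : X) using 1; funext c; rw [Fintype.linearCombination_apply])
  let eM : ∀ x : S, (Fin n → R x) ≃ₗ[R x] M.presheaf.stalk (x : X) := fun x =>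
    LinearEquiv.ofBijective (Fintype.linearCombination (R x) (v x))
      (by convert hv x using 1; funext c; rw [Fintype.linearCombination_apply])
  have hmat : ∀ (x : S) (c : Fin n → R x), stalkLin φ (x : X) (eF x c) = eM x ((Q x).mulVec c) := by
    intro x c
    show stalkLin φ (x : X) (Fintype.linearCombination (R x) _ c) = Fintype.linearCombination (R x) (v x) _
    rw [Fintype.linearCombination_apply, Fintype.linearCombination_apply, hcoord]
    simp only [hQ, Finset.smul_sum, smul_smul, Matrix.mulVec, dotProduct, Finset.sum_smul]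
    rw [Finset.sum_comm]
    exact Finset.sum_congr rfl fun i _ => Finset.sum_congr rfl fun j _ => by rw [mul_comm]
  have hexK : ∀ (x : X) (e : F.presheaf.stalk x), stalkLin φ x e = 0 →
      ∃ h, stalkLin (kernel.ι φ) x h = e := fun x e he =>
    (ShortComplex.moduleCat_exact_iff _).1 ((OX.exact_iff (ShortComplex.mk _ _ (kernel.condition φ))).1
      (ShortComplex.exact_of_f_is_kernel _ (kernelIsKernel φ)) x) e he
  have hexC : ∀ (x : X) (e : M.presheaf.stalk x), stalkLin (cokernel.π φ) x e = 0 →
      ∃ h, stalkLin φ x h = e := fun x e he =>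
    (ShortComplex.moduleCat_exact_iff _).1 ((OX.exact_iff (ShortComplex.mk _ _ (cokernel.condition φ))).1
      (ShortComplex.exact_of_g_is_cokernel _ (cokernelIsCokernel φ)) x) e he
  have hcomp : ∀ (x : X) (e : (kernel φ).presheaf.stalk x), stalkLin φ x (stalkLin (kernel.ι φ) x e) = 0 := by
    intro x e
    rw [← QCoh.stalkLin_comp, kernel.condition]
    exact LinearMap.congr_fun (congrArg ModuleCat.Hom.hom ((OX.stalk x).map_zero (kernel φ) M)) e
  have hcomp' : ∀ (x : X) (e : F.presheaf.stalk x), stalkLin (cokernel.π φ) x (stalkLin φ x e) = 0 := by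
    intro x e
    rw [← QCoh.stalkLin_comp, cokernel.condition]
    exact LinearMap.congr_fun (congrArg ModuleCat.Hom.hom ((OX.stalk x).map_zero F (cokernel φ))) e
  -- kernel
  let α : ∀ x : S, (kernel φ).presheaf.stalk (x : X) →ₗ[R x] LinearMap.ker (Q x).mulVecLin := fun x =>
    (((eF x).symm.toLinearMap).comp (stalkLin (kernel.ι φ) (x : X))).codRestrict _ fun e => by
      rw [LinearMap.mem_ker, Matrix.mulVecLin_apply]
      apply (eM x).injective
      rw [map_zero, ← hmat]
      show stalkLin φ (x : X) (eF x ((eF x).symm _)) = 0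
      rw [LinearEquiv.apply_symm_apply]
      exact hcomp _ e
  have hα : ∀ x, Function.Bijective (α x) := fun x => by
    refine ⟨fun a b h => QCoh.stalkLin_injective (kernel.ι φ) _ ((eF x).symm.injective (congrArg Subtype.val h)),
      fun c => ?_⟩
    obtain ⟨h, hh⟩ := hexK _ (eF x c.1) (by
      rw [hmat, show (Q x).mulVec c.1 = 0 from c.2, map_zero])
    exact ⟨h, Subtype.ext (by show (eF x).symm _ = _; rw [hh, LinearEquiv.symm_apply_apply])⟩
  -- cokernel
  let β : ∀ x : S, ((Fin n → R x) ⧸ LinearMap.range (Q x).mulVecLin) →ₗ[R x] (cokernel φ).presheaf.stalk (x : X) :=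
    fun x => Submodule.liftQ _ ((stalkLin (cokernel.π φ) (x : X)).comp (eM x).toLinearMap) (by
      rintro _ ⟨c, rfl⟩
      show stalkLin (cokernel.π φ) (x : X) (eM x ((Q x).mulVec c)) = 0
      rw [← hmat]
      exact hcomp' _ _)
  have hβ : ∀ x, Function.Bijective (β x) := fun x => by
    refine ⟨(injective_iff_map_eq_zero (β x)).2 fun a ha => ?_, fun w => ?_⟩
    · obtain ⟨a, rfl⟩ := Submodule.Quotient.mk_surjective _ a
      obtain ⟨e, he⟩ := hexC _ _ ha
      rw [Submodule.Quotient.mk_eq_zero]
      refine ⟨(eF x).symm e, (eM x).injective ?_⟩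
      rw [Matrix.mulVecLin_apply, ← hmat, LinearEquiv.apply_symm_apply]
      exact he
    · obtain ⟨m, rfl⟩ := QCoh.stalkLin_surjective (cokernel.π φ) (x : X) w
      exact ⟨Submodule.Quotient.mk ((eM x).symm m), by
        show stalkLin (cokernel.π φ) (x : X) (eM x ((eM x).symm m)) = _
        rw [LinearEquiv.apply_symm_apply]⟩
  have hKc := QCoh.isCoh_kernel φ hF hM
  have hCc := QCoh.isCoh_cokernel φ hF hM
  obtain ⟨hfK, eK⟩ := finrank_H0_eq_sum k hKc S hK hcl (fun x => LinearMap.ker (Q x).mulVecLin)
    (fun x => (LinearEquiv.ofBijective (α x) (hα x)).toAddEquiv) (fun x a m => by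
      show α x (algebraMap k (R x) a • m) = a • α x m
      rw [map_smul, algebraMap_smul])
  obtain ⟨hfC, eC⟩ := finrank_H0_eq_sum k hCc S hC hcl (fun x => (Fin n → R x) ⧸ LinearMap.range (Q x).mulVecLin)
    (fun x => (LinearEquiv.ofBijective (β x) (hβ x)).symm.toAddEquiv) (fun x a m => by
      show (LinearEquiv.ofBijective (β x) (hβ x)).symm (algebraMap k (R x) a • m) = _
      rw [map_smul, algebraMap_smul]
      rfl)
  -- the exact sequences
  let S₁ := ShortComplex.mk (kernel.ι φ) (cokernel.π (kernel.ι φ)) (cokernel.condition _)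
  have hS₁ : S₁.ShortExact := { exact := ShortComplex.exact_of_g_is_cokernel _ (cokernelIsCokernel _) }
  let g : cokernel (kernel.ι φ) ⟶ M := cokernel.desc (kernel.ι φ) φ (kernel.condition φ)
  haveI : Mono g := inferInstanceAs (Mono (Abelian.factorThruCoimage φ))
  have hπg : cokernel.π (kernel.ι φ) ≫ g = φ := cokernel.π_desc _ _ _
  let S₂ := ShortComplex.mk g (cokernel.π φ) (by
    rw [← cancel_epi (cokernel.π (kernel.ι φ)), ← Category.assoc, hπg, cokernel.condition, comp_zero])
  have hS₂ : S₂.ShortExact := by
    refine { exact := ShortComplex.exact_of_g_is_cokernel _ ?_ }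
    refine CokernelCofork.IsColimit.ofπ _ _ (fun l hl => cokernel.desc φ l (by rw [← hπg, Category.assoc, hl, comp_zero]))
      (fun l hl => cokernel.π_desc _ _ _) (fun l hl m hm => ?_)
    rw [← cancel_epi (cokernel.π φ), cokernel.π_desc]
    exact hm
  have hIc := QCoh.isCoh_cokernel (kernel.ι φ) hKc hF
  have e1 := Euler.euler_additive k hS₁ hKc hF hIc
  have e2 := Euler.euler_additive k hS₂ hIc hM hCc
  have e3 := CurveMult.euler_freeMod_structure k (X := X) n
  simp only [S₁, S₂] at e1 e2
  have e4 : ∀ x : S, idx k (Q x) = (Module.finrank k ((Fin n → R x) ⧸ LinearMap.range (Q x).mulVecLin) : ℤ) -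
      Module.finrank k (LinearMap.ker (Q x).mulVecLin) := by
    intro x
    have ec : ((Fin n → R x) ⧸ LinearMap.range (Q x).mulVecLin) ≃ₗ[k] (Fin n → R x) ⧸ LinearMap.range (mmap k (Q x)) :=
      (Submodule.Quotient.restrictScalarsEquiv k (LinearMap.range (Q x).mulVecLin)).symm ≪≫ₗ
        Submodule.quotEquivOfEq _ _ (LinearMap.range_restrictScalars (Q x).mulVecLin).symm
    rw [idx, lidx, ← ec.finrank_eq]
    rfl
  rw [Finset.sum_congr rfl fun x _ => e4 x, Finset.sum_sub_distrib, ← eK, ← eC]
  change Curv2.euler k X (FlatMod.freeMod X n) = _ at e3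
  linear_combination e2 + e3 - e1

end GrothLib.DegDet
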