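import Groth.Agent.Lib.DegDet.Stalk
import Groth.Agent.Lib.TensorGen.Det
import Groth.Agent.Lib.Euler.Divisor
import Groth.Agent.Lib.Ample.EquationCocycle
import Groth.Agent.Lib.Ample.CocTensor

/-!
# The degree of a bundle from frames glued along the equations of finitely many points
-/

universe u

set_option autoImplicit false
set_option linter.style.haveILetI false
set_option backward.isDefEq.respectTransparency false

open CategoryTheory CategoryTheory.Limits AlgebraicGeometry TopologicalSpace Opposite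
open GrothLib.Ample (Cocycle Equations res)
open GrothLib.InvExt (mres IsGen)
open GrothLib.FinCov (IsFrame)
open GrothLib.VA (tm)

noncomputable section

namespace GrothLib.DegDet

variable {X : Scheme.{u}}

/-- Frames may be reindexed. -/
theorem isFrame_reindex {M : X.Modules} {V : X.Opens} {m n : ℕ} (σ : Fin n ≃ Fin m)
    {e : Fin m → Γ(M, V)} (he : IsFrame M V e) : IsFrame M V fun i => e (σ i) := by
  intro W hW
  have h : (fun c : Fin n → Γ(X, W) => ∑ i, c i • M.presheaf.map (homOfLE hW).op (e (σ i))) =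
      (fun c : Fin m → Γ(X, W) => ∑ j, c j • M.presheaf.map (homOfLE hW).op (e j)) ∘ fun c j => c (σ.symm j) :=
    funext fun c => Fintype.sum_equiv σ _ _ fun i => by simp
  rw [h]
  exact (he W hW).comp (Function.bijective_iff_has_inverse.mpr
    ⟨fun c i => c (σ i), fun c => funext fun i => by simp, fun c => funext fun j => by simp⟩)

/-- A frame times a generator is a frame. -/
theorem isFrame_tm_gen {M N : X.Modules} {V : X.Opens} {n : ℕ} {a : Fin n → Γ(M, V)} {b : Γ(N, V)}
    (ha : IsFrame M V a) (hb : IsGen N V b) :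
    IsFrame (CohB1.tensorMod M N) V fun i => tm (a i) b := by
  have hb' : IsFrame N V (fun _ : Fin 1 => b) := fun W hW => by
    have h : (fun c : Fin 1 → Γ(X, W) => ∑ i, c i • N.presheaf.map (homOfLE hW).op b) =
        (fun c : Γ(X, W) => c • mres N hW b) ∘ fun c => c 0 := funext fun c => Fin.sum_univ_one _
    rw [h]
    exact (hb W hW).comp (Function.bijective_iff_has_inverse.mpr
      ⟨fun c _ => c, fun c => funext fun i => by rw [Subsingleton.elim i 0], fun c => rfl⟩)
  have h := isFrame_reindex ((Equiv.prodUnique (Fin n) (Fin 1)).symm.trans finProdFinEquiv)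
    (TensorGen.isFrame_tm ha hb')
  simpa using h

variable (k : Type u) [Field k] [X.Over (Spec (CommRingCat.of k))] [IsProper (X ↘ Spec (CommRingCat.of k))]

/-- Degrees of twists. -/
theorem deg_twist (c : Cocycle X) (hd : topologicalKrullDim X ≤ 1) :
    ∀ n : ℕ, Curv2.deg k X (c.twist n) 1 = n * Curv2.deg k X (c.twist 1) 1 := by
  intro n
  induction n with
  | zero =>
    obtain ⟨e⟩ := c.nonempty_twist_zero
    rw [Euler.deg_of_iso k e.symm, Nat.cast_zero, zero_mul]
    simp [Curv2.deg]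
  | succ n ih =>
    have hn := Euler.isFinLocFreeOfRank_one' (c.isInvertible_twist n)
    have h1 := Euler.isFinLocFreeOfRank_one' (c.isInvertible_twist 1)
    obtain ⟨U, hU, ⟨φ⟩⟩ := Euler.exists_trivial_genericPoints k hn
    have h := Euler.euler_tF k hd h1 (Euler.isCoh_of_isInvertible (c.isInvertible_twist n)) hU φ
    obtain ⟨e⟩ := c.nonempty_tensor_twist n 1
    have e' : Curv2.euler k X ((Euler.tF (c.twist 1)).obj (c.twist n)) = Curv2.euler k X (c.twist (n + 1)) :=
      Euler.euler_of_iso k e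
    simp only [Curv2.deg] at h ih ⊢
    push_cast at *
    linear_combination h - e' + ih

attribute [local instance] Curv2.stalkAlgebra

/-- The degree formula: a bundle with a frame on `U`, glued by matrices `Q` over `f ^ m` at the
points outside `U`. -/
theorem euler_formula (hd : topologicalKrullDim X ≤ 1) {n : ℕ} {M : X.Modules}
    (hM : FlatMod.IsFinLocFreeOfRank n M) {U : X.Opens} (hU : genericPoints (X : Type u) ⊆ U)
    (S : Finset X) (hS : (S : Set X) = (U : Set X)ᶜ)
    (N : S → X.Opens) (hxN : ∀ x : S, (x : X) ∈ N x) (hN : ∀ x y : S, x ≠ y → N x ⊓ N y ≤ U)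
    (f : ∀ x : S, Γ(X, N x)) (hf : ∀ x : S, X.basicOpen (f x) = N x ⊓ U) (m : ℕ)
    (a : Fin n → Γ(M, U)) (ha : IsFrame M U a) (e : ∀ x : S, Fin n → Γ(M, N x))
    (he : ∀ x : S, IsFrame M (N x) (e x)) (Q : ∀ x : S, Matrix (Fin n) (Fin n) Γ(X, N x))
    (hQ : ∀ (x : S) (i : Fin n),
      res (inf_le_left : N x ⊓ U ≤ N x) (f x) ^ m • mres M (inf_le_right : N x ⊓ U ≤ U) (a i) =
        ∑ j, res (inf_le_left : N x ⊓ U ≤ N x) (Q x j i) • mres M (inf_le_left : N x ⊓ U ≤ N x) (e x j))
    (c : Cocycle X)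
    (hc : ∃ E : Equations X, E.cocycle = c ∧ ∃ i₀ : E.ι, ∃ (σ : S → E.ι) (h₀ : E.D i₀ = U)
      (h₁ : ∀ x, E.D (σ x) = N x), E.V = U ∧ res h₀.ge (E.f i₀) = 1 ∧ ∀ x, res (h₁ x).ge (E.f (σ x)) = f x) :
    Curv2.deg k X M n + (n : ℤ) * (m * Curv2.deg k X (c.twist 1) 1) =
      ∑ x : S, idx k ((Q x).map (X.presheaf.germ (N x) (x : X) (hxN x))) := by
  classical
  obtain ⟨E, rfl, i₀, σ, h₀, h₁, hV, hf₀, hfσ⟩ := hc
  haveI := Euler.isNoetherian_of_proper (X := X) k
  let T := E.cocycle.twist m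
  let G := CohB1.tensorMod M T
  have hT : PicF.IsInvertible T := E.cocycle.isInvertible_twist m
  let b₀ : Γ(T, U) := E.cocycle.base m i₀ h₀.ge
  let b : ∀ x : S, Γ(T, N x) := fun x => E.cocycle.base m (σ x) (h₁ x).ge
  have hb₀ : IsGen T U b₀ := E.cocycle.isGen_base m i₀ _
  have hb : ∀ x, IsGen T (N x) (b x) := fun x => E.cocycle.isGen_base m (σ x) _
  let t₀ : Fin n → Γ(G, U) := fun i => tm (a i) b₀
  let t₁ : ∀ x : S, Fin n → Γ(G, N x) := fun x i => ∑ j, Q x j i • tm (e x j) (b x)
  have hov : ∀ (x : S) (i : Fin n),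
      mres G (inf_le_right : N x ⊓ U ≤ U) (t₀ i) = mres G (inf_le_left : N x ⊓ U ≤ N x) (t₁ x i) := by
    intro x i
    have hbx : mres T (inf_le_right : N x ⊓ U ≤ U) b₀ =
        res (inf_le_left : N x ⊓ U ≤ N x) (f x) ^ m • mres T (inf_le_left : N x ⊓ U ≤ N x) (b x) := by
      have hσ : N x ⊓ U ≤ E.D (σ x) := inf_le_left.trans (h₁ x).ge
      have hi : N x ⊓ U ≤ E.D i₀ := inf_le_right.trans h₀.ge
      show E.cocycle.sectRes (inf_le_right : N x ⊓ U ≤ U) (E.cocycle.base m i₀ h₀.ge) =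
        _ • E.cocycle.sectRes (inf_le_left : N x ⊓ U ≤ N x) (E.cocycle.base m (σ x) (h₁ x).ge)
      rw [Cocycle.sectRes_base, Cocycle.sectRes_base, E.cocycle.base_eq_smul_base m (σ x) i₀ hσ hi]
      congr 2
      show res (le_inf hσ hi) (E.g (σ x) i₀) = _
      have h := E.res_g_mul (σ x) i₀ hσ hi
      rw [← Ample.res_res h₀.ge (inf_le_right : N x ⊓ U ≤ U), hf₀, map_one, mul_one] at h
      rw [h, ← hfσ x, Ample.res_res]
    simp only [t₀, t₁]
    refine Eq.trans ?_ (map_sum (G.presheaf.map (homOfLE (inf_le_left : N x ⊓ U ≤ N x)).op).hom _ _).symm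
    rw [VA.mres_tm, hbx, VA.tm_smul_right, ← VA.tm_smul_left, hQ x i]
    refine Eq.trans ?_ (Finset.sum_congr rfl fun j _ => (Ample.mres_smul' G inf_le_left (Q x j i) _).symm)
    let L : Γ(M, N x ⊓ U) →ₗ[Γ(X, N x ⊓ U)] Γ(G, N x ⊓ U) :=
      { toFun := fun s => tm s (mres T (inf_le_left : N x ⊓ U ≤ N x) (b x))
        map_add' := fun s s' => VA.tm_add_left s s' _
        map_smul' := fun r s => VA.tm_smul_left r s _ }
    refine (map_sum L _ _).trans (Finset.sum_congr rfl fun j _ => (L.map_smul _ _).trans ?_)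
    exact congrArg (_ • ·) (VA.mres_tm (inf_le_left : N x ⊓ U ≤ N x) (e x j) (b x)).symm
  -- gluing
  let W : Option S → X.Opens := fun o => o.elim U N
  have hcov : (⊤ : X.Opens) ≤ ⨆ o, W o := fun y _ => Opens.mem_iSup.2 (by
    by_cases hy : y ∈ U
    · exact ⟨none, hy⟩
    · exact ⟨some ⟨y, by rw [← Finset.mem_coe, hS]; exact hy⟩, hxN ⟨y, by rw [← Finset.mem_coe, hS]; exact hy⟩⟩)
  let sf : ∀ (i : Fin n) (o : Option S), Γ(G, W o) := fun i o =>
    Option.rec (motive := fun o => Γ(G, W o)) (t₀ i) (fun x => t₁ x i) o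
  have hpull : ∀ (i : Fin n) (x : S) (O : X.Opens) (hO₁ : O ≤ N x) (hO₂ : O ≤ U),
      mres G hO₂ (t₀ i) = mres G hO₁ (t₁ x i) := by
    intro i x O hO₁ hO₂
    have h := congrArg (mres G (le_inf hO₁ hO₂)) (hov x i)
    rwa [InvExt.mres_mres, InvExt.mres_mres] at h
  have hcompat : ∀ i, TopCat.Presheaf.IsCompatible G.presheaf W (sf i) := by
    intro i o o'
    show mres G (inf_le_left : W o ⊓ W o' ≤ W o) (sf i o) = mres G (inf_le_right : W o ⊓ W o' ≤ W o') (sf i o')
    rcases o with _ | x <;> rcases o' with _ | y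
    · rfl
    · exact hpull i y _ inf_le_right inf_le_left
    · exact (hpull i x _ inf_le_left inf_le_right).symm
    · by_cases hxy : x = y
      · subst hxy; rfl
      · exact ((hpull i x _ inf_le_left (hN x y hxy)).symm).trans (hpull i y _ inf_le_right (hN x y hxy))
  choose s hs _ using fun i => TopCat.Sheaf.existsUnique_gluing' ⟨G.presheaf, G.isSheaf⟩ W ⊤
    (fun o => homOfLE le_top) hcov (sf i) (hcompat i)
  let s' : Fin n → Γ(G, ⊤) := s
  have hsU : ∀ (y : X) (hy : y ∈ U) (i : Fin n),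
      G.presheaf.germ ⊤ y trivial (s' i) = G.presheaf.germ U y hy (t₀ i) := fun y hy i => by
    have h := congrArg (G.presheaf.germ U y hy) (hs i none)
    erw [TopCat.Presheaf.germ_res_apply] at h
    exact h
  have hsN : ∀ (x : S) (i : Fin n),
      G.presheaf.germ ⊤ (x : X) trivial (s' i) = G.presheaf.germ (N x) (x : X) (hxN x) (t₁ x i) := fun x i => by
    have h := congrArg (G.presheaf.germ (N x) (x : X) (hxN x)) (hs i (some x))
    erw [TopCat.Presheaf.germ_res_apply] at h
    exact h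
  have hcl : ∀ x ∈ S, IsClosed ({x} : Set X) := fun x hx =>
    Euler.isClosed_singleton_of_notMem_genericPoints hd fun h => by
      have hx' : x ∈ (U : Set X)ᶜ := hS ▸ hx
      exact hx' (hU h)
  have hMlf := FinCov.isFinLocFree_of_rank hM
  have hT1 := Euler.isFinLocFreeOfRank_one' hT
  have hGc : Coh.IsCoh G := Euler.isCoh_tF (Euler.isCoh_of_isFinLocFree hMlf) (FinCov.isFinLocFree_of_rank hT1)
  have key := euler_sub_eq_sum k hGc s' S hcl
    (fun y hy => by
      have hyU : y ∈ U := by_contra fun h => hy (by rw [← Finset.mem_coe, hS]; exact h)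
      simp only [hsU y hyU]
      exact Euler.bijective_germ_comb (isFrame_tm_gen ha hb₀) hyU)
    (fun x j => G.presheaf.germ (N x) (x : X) (hxN x) (tm (e x j) (b x)))
    (fun x => Euler.bijective_germ_comb (isFrame_tm_gen (he x) (hb x)) (hxN x))
    (fun x => (Q x).map (X.presheaf.germ (N x) (x : X) (hxN x))) fun x i => by
      rw [hsN, Euler.germ_sum_smul]
      rfl
  obtain ⟨U', hU', ⟨φ⟩⟩ := Euler.exists_trivial_genericPoints k hM
  have e1 := Euler.euler_tF k hd hT1 (Euler.isCoh_of_isFinLocFree hMlf) hU' φ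
  rw [deg_twist k E.cocycle hd m] at e1
  change Curv2.euler k X G = _ at e1
  rw [← key, e1, Curv2.deg]
  push_cast
  ring

end GrothLib.DegDet
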