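import Mathlib.LinearAlgebra.Dimension.Finite
import Mathlib.LinearAlgebra.Dimension.RankNullity
import Mathlib.LinearAlgebra.FiniteDimensional.Lemmas
import Mathlib.LinearAlgebra.Matrix.ToLin

/-!
# The index of linear maps with finite-dimensional kernel and cokernel
-/

universe u v w z

set_option autoImplicit false
set_option linter.style.haveILetI false

noncomputable section

namespace GrothLib.DegDet

open Module

variable {k : Type u} [Field k] {U : Type v} {V : Type w} {W : Type z} [AddCommGroup U] [AddCommGroup V]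
  [AddCommGroup W] [Module k U] [Module k V] [Module k W]

/-- Finite-dimensional kernel and cokernel. -/
structure IsIdx (f : U →ₗ[k] V) : Prop where
  ker : FiniteDimensional k (LinearMap.ker f)
  coker : FiniteDimensional k (V ⧸ LinearMap.range f)

/-- The index: dimension of the cokernel minus dimension of the kernel. -/
def lidx (f : U →ₗ[k] V) : ℤ :=
  (finrank k (V ⧸ LinearMap.range f) : ℤ) - finrank k (LinearMap.ker f)

theorem lidx_of_bijective {f : U →ₗ[k] V} (hf : Function.Bijective f) : IsIdx f ∧ lidx f = 0 := by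
  have hk : LinearMap.ker f = ⊥ := LinearMap.ker_eq_bot.mpr hf.1
  have hr : LinearMap.range f = ⊤ := LinearMap.range_eq_top.mpr hf.2
  haveI : Subsingleton (LinearMap.ker f) := by rw [hk]; infer_instance
  haveI : Subsingleton (V ⧸ LinearMap.range f) := Submodule.Quotient.subsingleton_iff.mpr hr
  exact ⟨⟨inferInstance, inferInstance⟩, by
    rw [lidx, finrank_zero_of_subsingleton, finrank_zero_of_subsingleton]; simp⟩

/-- The index is additive under composition. -/
theorem lidx_comp {f : V →ₗ[k] W} {g : U →ₗ[k] V} (hf : IsIdx f) (hg : IsIdx g) :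
    IsIdx (f.comp g) ∧ lidx (f.comp g) = lidx f + lidx g := by
  haveI := hf.ker
  haveI := hf.coker
  haveI := hg.ker
  haveI := hg.coker
  -- the kernel
  let α : LinearMap.ker (f.comp g) →ₗ[k] LinearMap.ker f := g.restrict fun x hx => hx
  let ιk : LinearMap.ker g →ₗ[k] LinearMap.ker α :=
    (Submodule.inclusion (LinearMap.ker_le_ker_comp g f)).codRestrict _ fun x => Subtype.ext x.2
  have hιk : Function.Bijective ιk := by
    refine ⟨fun x y h => Subtype.ext (congrArg (fun t : LinearMap.ker α => ((t : LinearMap.ker (f.comp g)) : U)) h), fun x => ?_⟩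
    exact ⟨⟨x.1.1, congrArg (fun t : LinearMap.ker f => (t : V)) x.2⟩, rfl⟩
  haveI : FiniteDimensional k (LinearMap.ker α) := (LinearEquiv.ofBijective ιk hιk).finiteDimensional
  haveI : FiniteDimensional k (LinearMap.range α) := inferInstance
  haveI hkc : FiniteDimensional k (LinearMap.ker (f.comp g)) := by
    haveI : IsNoetherian k (LinearMap.range α) := inferInstance
    haveI : IsNoetherian k (LinearMap.ker α) := inferInstance
    haveI : IsNoetherian k (LinearMap.ker (f.comp g)) :=
      isNoetherian_of_range_eq_ker (LinearMap.ker α).subtype α.rangeRestrict (by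
        rw [Submodule.range_subtype, LinearMap.ker_rangeRestrict])
    infer_instance
  have e1 : finrank k (LinearMap.ker (f.comp g)) = finrank k (LinearMap.range α) + finrank k (LinearMap.ker g) := by
    rw [← α.finrank_range_add_finrank_ker, (LinearEquiv.ofBijective ιk hιk).finrank_eq]
  -- the middle term
  let β : LinearMap.ker f →ₗ[k] V ⧸ LinearMap.range g := (LinearMap.range g).mkQ.comp (LinearMap.ker f).subtype
  have hkerβ : LinearMap.ker β = LinearMap.range α := by
    ext x
    constructor
    · intro hx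
      obtain ⟨y, hy⟩ : (x : V) ∈ LinearMap.range g := (Submodule.Quotient.mk_eq_zero _).mp hx
      exact ⟨⟨y, show f (g y) = 0 by rw [hy]; exact x.2⟩, Subtype.ext hy⟩
    · rintro ⟨y, rfl⟩
      exact (Submodule.Quotient.mk_eq_zero _).mpr ⟨y.1, rfl⟩
  have e2 : finrank k (LinearMap.ker f) = finrank k (LinearMap.range β) + finrank k (LinearMap.range α) := by
    rw [← β.finrank_range_add_finrank_ker, hkerβ]
  -- the cokernel
  let γ : (V ⧸ LinearMap.range g) →ₗ[k] W ⧸ LinearMap.range (f.comp g) :=
    Submodule.mapQ _ _ f (by rintro _ ⟨y, rfl⟩; exact ⟨y, rfl⟩)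
  let δ : (W ⧸ LinearMap.range (f.comp g)) →ₗ[k] W ⧸ LinearMap.range f :=
    Submodule.factor (LinearMap.range_comp_le_range g f)
  have hδ : Function.Surjective δ := Submodule.factor_surjective _
  have hkerγ : LinearMap.ker γ = LinearMap.range β := by
    ext x
    obtain ⟨v, rfl⟩ := Submodule.Quotient.mk_surjective _ x
    constructor
    · intro hx
      obtain ⟨y, hy⟩ : f v ∈ LinearMap.range (f.comp g) := (Submodule.Quotient.mk_eq_zero _).mp hx
      refine ⟨⟨v - g y, show f (v - g y) = 0 by rw [map_sub, sub_eq_zero]; exact hy.symm⟩, ?_⟩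
      show Submodule.Quotient.mk (v - g y) = _
      rw [Submodule.Quotient.eq]
      exact ⟨-y, by rw [map_neg]; abel⟩
    · rintro ⟨y, hy⟩
      rw [← hy]
      show Submodule.Quotient.mk (f y.1) = 0
      rw [show f y.1 = 0 from y.2]
      rfl
  have hkerδ : LinearMap.ker δ = LinearMap.range γ := by
    ext x
    obtain ⟨w, rfl⟩ := Submodule.Quotient.mk_surjective _ x
    constructor
    · intro hx
      obtain ⟨v, rfl⟩ : w ∈ LinearMap.range f := (Submodule.Quotient.mk_eq_zero _).mp hx
      exact ⟨Submodule.Quotient.mk v, rfl⟩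
    · rintro ⟨y, hy⟩
      obtain ⟨v, rfl⟩ := Submodule.Quotient.mk_surjective _ y
      rw [← hy]
      exact (Submodule.Quotient.mk_eq_zero _).mpr ⟨v, rfl⟩
  haveI hcc : FiniteDimensional k (W ⧸ LinearMap.range (f.comp g)) := by
    haveI : IsNoetherian k (LinearMap.ker δ) := by rw [hkerδ]; exact inferInstance
    haveI : IsNoetherian k (W ⧸ LinearMap.range f) := inferInstance
    haveI : IsNoetherian k (W ⧸ LinearMap.range (f.comp g)) :=
      isNoetherian_of_range_eq_ker (LinearMap.ker δ).subtype δ (Submodule.range_subtype _)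
    infer_instance
  have e3 : finrank k (V ⧸ LinearMap.range g) = finrank k (LinearMap.range γ) + finrank k (LinearMap.range β) := by
    rw [← γ.finrank_range_add_finrank_ker, hkerγ]
  have e4 : finrank k (W ⧸ LinearMap.range (f.comp g)) = finrank k (W ⧸ LinearMap.range f) + finrank k (LinearMap.range γ) := by
    rw [← δ.finrank_range_add_finrank_ker, hkerδ, LinearMap.range_eq_top.mpr hδ, finrank_top]
  refine ⟨⟨hkc, hcc⟩, ?_⟩
  simp only [lidx, e1, e2, e3, e4]
  push_cast
  ring

/-- Composition with isomorphisms does not change the index. -/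
theorem lidx_conj {U' : Type*} {V' : Type*} [AddCommGroup U'] [AddCommGroup V'] [Module k U'] [Module k V']
    {f : U →ₗ[k] V} (hf : IsIdx f) (a : U' ≃ₗ[k] U) (b : V ≃ₗ[k] V') :
    IsIdx (b.toLinearMap.comp (f.comp a.toLinearMap)) ∧
      lidx (b.toLinearMap.comp (f.comp a.toLinearMap)) = lidx f := by
  obtain ⟨ha, ha'⟩ := lidx_of_bijective (f := a.toLinearMap) a.bijective
  obtain ⟨hb, hb'⟩ := lidx_of_bijective (f := b.toLinearMap) b.bijective
  obtain ⟨h1, h1'⟩ := lidx_comp hf ha
  obtain ⟨h2, h2'⟩ := lidx_comp hb h1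
  exact ⟨h2, by rw [h2', h1', ha', hb', zero_add, add_zero]⟩

/-- The index of a product. -/
theorem lidx_prodMap {U' : Type*} {V' : Type*} [AddCommGroup U'] [AddCommGroup V'] [Module k U'] [Module k V']
    {f : U →ₗ[k] V} {g : U' →ₗ[k] V'} (hf : IsIdx f) (hg : IsIdx g) :
    lidx (f.prodMap g) = lidx f + lidx g := by
  haveI := hf.ker
  haveI := hf.coker
  haveI := hg.ker
  haveI := hg.coker
  let eK : LinearMap.ker (f.prodMap g) ≃ₗ[k] LinearMap.ker f × LinearMap.ker g :=
    { toFun := fun x => (⟨x.1.1, congrArg Prod.fst x.2⟩, ⟨x.1.2, congrArg Prod.snd x.2⟩)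
      invFun := fun x => ⟨(x.1.1, x.2.1), Prod.ext x.1.2 x.2.2⟩
      left_inv := fun _ => rfl
      right_inv := fun _ => rfl
      map_add' := fun _ _ => rfl
      map_smul' := fun _ _ => rfl }
  let π : V × V' →ₗ[k] (V ⧸ LinearMap.range f) × (V' ⧸ LinearMap.range g) :=
    (LinearMap.range f).mkQ.prodMap (LinearMap.range g).mkQ
  have hπ : Function.Surjective π := fun ⟨x, y⟩ => by
    obtain ⟨x, rfl⟩ := Submodule.Quotient.mk_surjective _ x
    obtain ⟨y, rfl⟩ := Submodule.Quotient.mk_surjective _ y
    exact ⟨(x, y), rfl⟩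
  have hkπ : LinearMap.ker π = LinearMap.range (f.prodMap g) := by
    rw [LinearMap.range_prodMap, LinearMap.ker_prodMap, Submodule.ker_mkQ, Submodule.ker_mkQ]
  have eC : finrank k ((V × V') ⧸ LinearMap.range (f.prodMap g)) =
      finrank k ((V ⧸ LinearMap.range f) × (V' ⧸ LinearMap.range g)) := by
    rw [← hkπ]; exact (π.quotKerEquivOfSurjective hπ).finrank_eq
  simp only [lidx, eK.finrank_eq, eC, finrank_prod]
  push_cast
  ring

end GrothLib.DegDet
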